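import Cfsg.Agent.Helper96.M22c.Perm2.Data
set_option autoImplicit false
set_option maxRecDepth 1000000
namespace Cfsg.Agent.Helper96.M22c.Perm2
open Cfsg.Agent.Helper28
theorem perm_piece_10_5 : permPiece tabs.word letL.get 1023 15 32767 25 1 27775 4481 = true := by decide +kernel
theorem perm_piece_11_0 : permPiece tabs.word letL.get 1023 15 32767 26 1 0 5555 = true := by decide +kernel
end Cfsg.Agent.Helper96.M22c.Perm2
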