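import Cfsg.Agent.Helper96.M22c.Perm2.Data
set_option autoImplicit false
set_option maxRecDepth 1000000
namespace Cfsg.Agent.Helper96.M22c.Perm2
open Cfsg.Agent.Helper28
theorem perm_piece_21_3 : permPiece tabs.word letL.get 1023 15 32767 36 1 16665 5555 = true := by decide +kernel
theorem perm_piece_21_4 : permPiece tabs.word letL.get 1023 15 32767 36 1 22220 5555 = true := by decide +kernel
end Cfsg.Agent.Helper96.M22c.Perm2
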