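import Cfsg.Agent.Helper96.M22c.Perm2.Inv0
import Cfsg.Agent.Helper96.M22c.Perm2.Inv1
import Cfsg.Agent.Helper96.M22c.Perm2.Inv2
import Cfsg.Agent.Helper96.M22c.Perm2.Inv3
import Cfsg.Agent.Helper96.M22c.Perm2.P0
import Cfsg.Agent.Helper96.M22c.Perm2.P1
import Cfsg.Agent.Helper96.M22c.Perm2.P2
import Cfsg.Agent.Helper96.M22c.Perm2.P3
import Cfsg.Agent.Helper96.M22c.Perm2.P4
import Cfsg.Agent.Helper96.M22c.Perm2.P5
import Cfsg.Agent.Helper96.M22c.Perm2.P6
import Cfsg.Agent.Helper96.M22c.Perm2.P7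
import Cfsg.Agent.Helper96.M22c.Perm2.P8
import Cfsg.Agent.Helper96.M22c.Perm2.P9
import Cfsg.Agent.Helper96.M22c.Perm2.P10
import Cfsg.Agent.Helper96.M22c.Perm2.P11
import Cfsg.Agent.Helper96.M22c.Perm2.P12
import Cfsg.Agent.Helper96.M22c.Perm2.P13
import Cfsg.Agent.Helper96.M22c.Perm2.P14
import Cfsg.Agent.Helper96.M22c.Perm2.P15
import Cfsg.Agent.Helper96.M22c.Perm2.P16
import Cfsg.Agent.Helper96.M22c.Perm2.P17
import Cfsg.Agent.Helper96.M22c.Perm2.P18
import Cfsg.Agent.Helper96.M22c.Perm2.P19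
import Cfsg.Agent.Helper96.M22c.Perm2.P20
import Cfsg.Agent.Helper96.M22c.Perm2.P21
import Cfsg.Agent.Helper96.M22c.Perm2.P22
import Cfsg.Agent.Helper96.M22c.Perm2.P23
import Cfsg.Agent.Helper96.M22c.Perm2.P24
import Cfsg.Agent.Helper96.M22c.Perm2.P25
import Cfsg.Agent.Helper96.M22c.Perm2.P26
import Cfsg.Agent.Helper96.M22c.Perm2.P27
import Cfsg.Agent.Helper96.M22c.Perm2.P28
import Cfsg.Agent.Helper96.M22c.Perm2.P29
import Cfsg.Agent.Helper96.M22c.Perm2.P30
import Cfsg.Agent.Helper96.M22c.Perm2.P31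
import Cfsg.Agent.Helper96.M22c.Perm2.P32
import Cfsg.Agent.Helper96.M22c.Perm2.P33
import Cfsg.Agent.Helper96.M22c.Perm2.P34
import Cfsg.Agent.Helper96.M22c.Perm2.P35
import Cfsg.Agent.Helper96.M22c.Perm2.P36
import Cfsg.Agent.Helper96.M22c.Perm2.P37
import Cfsg.Agent.Helper96.M22c.Perm2.P38
import Cfsg.Agent.Helper96.M22c.Perm2.P39
import Cfsg.Agent.Helper96.M22c.Perm2.P40
import Cfsg.Agent.Helper96.M22c.Perm2.P41
import Cfsg.Agent.Helper96.M22c.Perm2.P42
import Cfsg.Agent.Helper96.M22c.Perm2.P43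
import Cfsg.Agent.Helper96.M22c.Perm2.P44
import Cfsg.Agent.Helper96.M22c.Perm2.P45
import Cfsg.Agent.Helper96.M22c.Perm2.P46
import Cfsg.Agent.Helper96.M22c.Perm2.P47
import Cfsg.Agent.Helper96.M22c.Perm2.P48
import Cfsg.Agent.Helper96.M22c.Perm2.P49
import Cfsg.Agent.Helper96.M22c.Perm2.P50
import Cfsg.Agent.Helper96.M22c.Perm2.P51
import Cfsg.Agent.Helper96.M22c.Perm2.P52
import Cfsg.Agent.Helper96.M22c.Perm2.P53
import Cfsg.Agent.Helper96.M22c.Perm2.P54
import Cfsg.Agent.Helper96.M22c.Perm2.P55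
import Cfsg.Agent.Helper96.M22c.Perm2.P56
import Cfsg.Agent.Helper96.M22c.Perm2.P57
import Cfsg.Agent.Helper96.M22c.Perm2.P58
import Cfsg.Agent.Helper96.M22c.Perm2.P59
import Cfsg.Agent.Helper96.M22c.Perm2.P60
import Cfsg.Agent.Helper96.M22c.Perm2.P61
import Cfsg.Agent.Helper96.M22c.Perm2.P62
import Cfsg.Agent.Helper96.M22c.Perm2.P63
import Cfsg.Agent.Helper96.M22c.Perm2.P64
import Cfsg.Agent.Helper96.M22c.Perm2.P65
import Cfsg.Agent.Helper96.M22c.Perm2.P66
import Cfsg.Agent.Helper96.M22c.Perm2.P67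
import Cfsg.Agent.Helper96.M22c.Perm2.P68
import Cfsg.Agent.Helper96.M22c.Perm2.P69
import Cfsg.Agent.Helper96.M22c.Perm2.P70
import Cfsg.Agent.Helper96.M22c.Perm2.P71
import Cfsg.Agent.Helper96.M22c.Perm2.P72
set_option autoImplicit false
namespace Cfsg.Agent.Helper96.M22c.Perm2
open Cfsg.Agent.Helper28
theorem inv_upto0 : allLt (invRow ptabs) 3000 = true :=
  allLt_extend _ 0 3000 3000 rfl (allLt_zero _) inv_piece0
theorem inv_upto1 : allLt (invRow ptabs) 6000 = true :=
  allLt_extend _ 3000 3000 6000 rfl inv_upto0 inv_piece1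
theorem inv_upto2 : allLt (invRow ptabs) 9000 = true :=
  allLt_extend _ 6000 3000 9000 rfl inv_upto1 inv_piece2
theorem inv_upto3 : allLt (invRow ptabs) 12000 = true :=
  allLt_extend _ 9000 3000 12000 rfl inv_upto2 inv_piece3
theorem inv_upto4 : allLt (invRow ptabs) 15000 = true :=
  allLt_extend _ 12000 3000 15000 rfl inv_upto3 inv_piece4
theorem inv_upto5 : allLt (invRow ptabs) 18000 = true :=
  allLt_extend _ 15000 3000 18000 rfl inv_upto4 inv_piece5
theorem inv_upto6 : allLt (invRow ptabs) 21000 = true :=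
  allLt_extend _ 18000 3000 21000 rfl inv_upto5 inv_piece6
theorem inv_upto7 : allLt (invRow ptabs) 24000 = true :=
  allLt_extend _ 21000 3000 24000 rfl inv_upto6 inv_piece7
theorem inv_upto8 : allLt (invRow ptabs) 27000 = true :=
  allLt_extend _ 24000 3000 27000 rfl inv_upto7 inv_piece8
theorem inv_upto9 : allLt (invRow ptabs) 30000 = true :=
  allLt_extend _ 27000 3000 30000 rfl inv_upto8 inv_piece9
theorem inv_upto10 : allLt (invRow ptabs) 32256 = true :=
  allLt_extend _ 30000 2256 32256 rfl inv_upto9 inv_piece10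
theorem inv_ok : invOk ptabs = true := (invOk_eq ptabs).trans inv_upto10
theorem perm_g0_upto0 : TraceFix ptabs.perm tabs.word 0 16 6250 :=
  traceFix_extend _ _ letL.get 1023 15 32767 perm_eq 0 16 0 6250 6250 rfl (traceFix_zero _ _ 0 16) perm_piece_0_0
theorem perm_g0_upto1 : TraceFix ptabs.perm tabs.word 0 16 12500 :=
  traceFix_extend _ _ letL.get 1023 15 32767 perm_eq 0 16 6250 6250 12500 rfl perm_g0_upto0 perm_piece_0_1
theorem perm_g0_upto2 : TraceFix ptabs.perm tabs.word 0 16 18750 :=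
  traceFix_extend _ _ letL.get 1023 15 32767 perm_eq 0 16 12500 6250 18750 rfl perm_g0_upto1 perm_piece_0_2
theorem perm_g0_upto3 : TraceFix ptabs.perm tabs.word 0 16 25000 :=
  traceFix_extend _ _ letL.get 1023 15 32767 perm_eq 0 16 18750 6250 25000 rfl perm_g0_upto2 perm_piece_0_3
theorem perm_g0_upto4 : TraceFix ptabs.perm tabs.word 0 16 31250 :=
  traceFix_extend _ _ letL.get 1023 15 32767 perm_eq 0 16 25000 6250 31250 rfl perm_g0_upto3 perm_piece_0_4
theorem perm_g0_upto5 : TraceFix ptabs.perm tabs.word 0 16 32256 :=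
  traceFix_extend _ _ letL.get 1023 15 32767 perm_eq 0 16 31250 1006 32256 rfl perm_g0_upto4 perm_piece_0_5
theorem perm_g0 : ∀ r, 0 ≤ r → r < 0 + 16 → relOk ptabs (tabs.word r) 0 ptabs.n = true :=
  relOk_of_traceFix ptabs tabs.word 0 16 perm_g0_upto5
theorem perm_g1_upto0 : TraceFix ptabs.perm tabs.word 16 1 14285 :=
  traceFix_extend _ _ letL.get 1023 15 32767 perm_eq 16 1 0 14285 14285 rfl (traceFix_zero _ _ 16 1) perm_piece_1_0
theorem perm_g1_upto1 : TraceFix ptabs.perm tabs.word 16 1 28570 :=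
  traceFix_extend _ _ letL.get 1023 15 32767 perm_eq 16 1 14285 14285 28570 rfl perm_g1_upto0 perm_piece_1_1
theorem perm_g1_upto2 : TraceFix ptabs.perm tabs.word 16 1 32256 :=
  traceFix_extend _ _ letL.get 1023 15 32767 perm_eq 16 1 28570 3686 32256 rfl perm_g1_upto1 perm_piece_1_2
theorem perm_g1 : ∀ r, 16 ≤ r → r < 16 + 1 → relOk ptabs (tabs.word r) 0 ptabs.n = true :=
  relOk_of_traceFix ptabs tabs.word 16 1 perm_g1_upto2
theorem perm_g2_upto0 : TraceFix ptabs.perm tabs.word 17 1 20000 :=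
  traceFix_extend _ _ letL.get 1023 15 32767 perm_eq 17 1 0 20000 20000 rfl (traceFix_zero _ _ 17 1) perm_piece_2_0
theorem perm_g2_upto1 : TraceFix ptabs.perm tabs.word 17 1 32256 :=
  traceFix_extend _ _ letL.get 1023 15 32767 perm_eq 17 1 20000 12256 32256 rfl perm_g2_upto0 perm_piece_2_1
theorem perm_g2 : ∀ r, 17 ≤ r → r < 17 + 1 → relOk ptabs (tabs.word r) 0 ptabs.n = true :=
  relOk_of_traceFix ptabs tabs.word 17 1 perm_g2_upto1
theorem perm_g3_upto0 : TraceFix ptabs.perm tabs.word 18 1 20000 :=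
  traceFix_extend _ _ letL.get 1023 15 32767 perm_eq 18 1 0 20000 20000 rfl (traceFix_zero _ _ 18 1) perm_piece_3_0
theorem perm_g3_upto1 : TraceFix ptabs.perm tabs.word 18 1 32256 :=
  traceFix_extend _ _ letL.get 1023 15 32767 perm_eq 18 1 20000 12256 32256 rfl perm_g3_upto0 perm_piece_3_1
theorem perm_g3 : ∀ r, 18 ≤ r → r < 18 + 1 → relOk ptabs (tabs.word r) 0 ptabs.n = true :=
  relOk_of_traceFix ptabs tabs.word 18 1 perm_g3_upto1
theorem perm_g4_upto0 : TraceFix ptabs.perm tabs.word 19 1 6666 :=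
  traceFix_extend _ _ letL.get 1023 15 32767 perm_eq 19 1 0 6666 6666 rfl (traceFix_zero _ _ 19 1) perm_piece_4_0
theorem perm_g4_upto1 : TraceFix ptabs.perm tabs.word 19 1 13332 :=
  traceFix_extend _ _ letL.get 1023 15 32767 perm_eq 19 1 6666 6666 13332 rfl perm_g4_upto0 perm_piece_4_1
theorem perm_g4_upto2 : TraceFix ptabs.perm tabs.word 19 1 19998 :=
  traceFix_extend _ _ letL.get 1023 15 32767 perm_eq 19 1 13332 6666 19998 rfl perm_g4_upto1 perm_piece_4_2
theorem perm_g4_upto3 : TraceFix ptabs.perm tabs.word 19 1 26664 :=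
  traceFix_extend _ _ letL.get 1023 15 32767 perm_eq 19 1 19998 6666 26664 rfl perm_g4_upto2 perm_piece_4_3
theorem perm_g4_upto4 : TraceFix ptabs.perm tabs.word 19 1 32256 :=
  traceFix_extend _ _ letL.get 1023 15 32767 perm_eq 19 1 26664 5592 32256 rfl perm_g4_upto3 perm_piece_4_4
theorem perm_g4 : ∀ r, 19 ≤ r → r < 19 + 1 → relOk ptabs (tabs.word r) 0 ptabs.n = true :=
  relOk_of_traceFix ptabs tabs.word 19 1 perm_g4_upto4
theorem perm_g5_upto0 : TraceFix ptabs.perm tabs.word 20 1 6666 :=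
  traceFix_extend _ _ letL.get 1023 15 32767 perm_eq 20 1 0 6666 6666 rfl (traceFix_zero _ _ 20 1) perm_piece_5_0
theorem perm_g5_upto1 : TraceFix ptabs.perm tabs.word 20 1 13332 :=
  traceFix_extend _ _ letL.get 1023 15 32767 perm_eq 20 1 6666 6666 13332 rfl perm_g5_upto0 perm_piece_5_1
theorem perm_g5_upto2 : TraceFix ptabs.perm tabs.word 20 1 19998 :=
  traceFix_extend _ _ letL.get 1023 15 32767 perm_eq 20 1 13332 6666 19998 rfl perm_g5_upto1 perm_piece_5_2
theorem perm_g5_upto3 : TraceFix ptabs.perm tabs.word 20 1 26664 :=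
  traceFix_extend _ _ letL.get 1023 15 32767 perm_eq 20 1 19998 6666 26664 rfl perm_g5_upto2 perm_piece_5_3
theorem perm_g5_upto4 : TraceFix ptabs.perm tabs.word 20 1 32256 :=
  traceFix_extend _ _ letL.get 1023 15 32767 perm_eq 20 1 26664 5592 32256 rfl perm_g5_upto3 perm_piece_5_4
theorem perm_g5 : ∀ r, 20 ≤ r → r < 20 + 1 → relOk ptabs (tabs.word r) 0 ptabs.n = true :=
  relOk_of_traceFix ptabs tabs.word 20 1 perm_g5_upto4
theorem perm_g6_upto0 : TraceFix ptabs.perm tabs.word 21 1 6250 :=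
  traceFix_extend _ _ letL.get 1023 15 32767 perm_eq 21 1 0 6250 6250 rfl (traceFix_zero _ _ 21 1) perm_piece_6_0
theorem perm_g6_upto1 : TraceFix ptabs.perm tabs.word 21 1 12500 :=
  traceFix_extend _ _ letL.get 1023 15 32767 perm_eq 21 1 6250 6250 12500 rfl perm_g6_upto0 perm_piece_6_1
theorem perm_g6_upto2 : TraceFix ptabs.perm tabs.word 21 1 18750 :=
  traceFix_extend _ _ letL.get 1023 15 32767 perm_eq 21 1 12500 6250 18750 rfl perm_g6_upto1 perm_piece_6_2
theorem perm_g6_upto3 : TraceFix ptabs.perm tabs.word 21 1 25000 :=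
  traceFix_extend _ _ letL.get 1023 15 32767 perm_eq 21 1 18750 6250 25000 rfl perm_g6_upto2 perm_piece_6_3
theorem perm_g6_upto4 : TraceFix ptabs.perm tabs.word 21 1 31250 :=
  traceFix_extend _ _ letL.get 1023 15 32767 perm_eq 21 1 25000 6250 31250 rfl perm_g6_upto3 perm_piece_6_4
theorem perm_g6_upto5 : TraceFix ptabs.perm tabs.word 21 1 32256 :=
  traceFix_extend _ _ letL.get 1023 15 32767 perm_eq 21 1 31250 1006 32256 rfl perm_g6_upto4 perm_piece_6_5
theorem perm_g6 : ∀ r, 21 ≤ r → r < 21 + 1 → relOk ptabs (tabs.word r) 0 ptabs.n = true :=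
  relOk_of_traceFix ptabs tabs.word 21 1 perm_g6_upto5
theorem perm_g7_upto0 : TraceFix ptabs.perm tabs.word 22 1 5882 :=
  traceFix_extend _ _ letL.get 1023 15 32767 perm_eq 22 1 0 5882 5882 rfl (traceFix_zero _ _ 22 1) perm_piece_7_0
theorem perm_g7_upto1 : TraceFix ptabs.perm tabs.word 22 1 11764 :=
  traceFix_extend _ _ letL.get 1023 15 32767 perm_eq 22 1 5882 5882 11764 rfl perm_g7_upto0 perm_piece_7_1
theorem perm_g7_upto2 : TraceFix ptabs.perm tabs.word 22 1 17646 :=
  traceFix_extend _ _ letL.get 1023 15 32767 perm_eq 22 1 11764 5882 17646 rfl perm_g7_upto1 perm_piece_7_2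
theorem perm_g7_upto3 : TraceFix ptabs.perm tabs.word 22 1 23528 :=
  traceFix_extend _ _ letL.get 1023 15 32767 perm_eq 22 1 17646 5882 23528 rfl perm_g7_upto2 perm_piece_7_3
theorem perm_g7_upto4 : TraceFix ptabs.perm tabs.word 22 1 29410 :=
  traceFix_extend _ _ letL.get 1023 15 32767 perm_eq 22 1 23528 5882 29410 rfl perm_g7_upto3 perm_piece_7_4
theorem perm_g7_upto5 : TraceFix ptabs.perm tabs.word 22 1 32256 :=
  traceFix_extend _ _ letL.get 1023 15 32767 perm_eq 22 1 29410 2846 32256 rfl perm_g7_upto4 perm_piece_7_5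
theorem perm_g7 : ∀ r, 22 ≤ r → r < 22 + 1 → relOk ptabs (tabs.word r) 0 ptabs.n = true :=
  relOk_of_traceFix ptabs tabs.word 22 1 perm_g7_upto5
theorem perm_g8_upto0 : TraceFix ptabs.perm tabs.word 23 1 5882 :=
  traceFix_extend _ _ letL.get 1023 15 32767 perm_eq 23 1 0 5882 5882 rfl (traceFix_zero _ _ 23 1) perm_piece_8_0
theorem perm_g8_upto1 : TraceFix ptabs.perm tabs.word 23 1 11764 :=
  traceFix_extend _ _ letL.get 1023 15 32767 perm_eq 23 1 5882 5882 11764 rfl perm_g8_upto0 perm_piece_8_1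
theorem perm_g8_upto2 : TraceFix ptabs.perm tabs.word 23 1 17646 :=
  traceFix_extend _ _ letL.get 1023 15 32767 perm_eq 23 1 11764 5882 17646 rfl perm_g8_upto1 perm_piece_8_2
theorem perm_g8_upto3 : TraceFix ptabs.perm tabs.word 23 1 23528 :=
  traceFix_extend _ _ letL.get 1023 15 32767 perm_eq 23 1 17646 5882 23528 rfl perm_g8_upto2 perm_piece_8_3
theorem perm_g8_upto4 : TraceFix ptabs.perm tabs.word 23 1 29410 :=
  traceFix_extend _ _ letL.get 1023 15 32767 perm_eq 23 1 23528 5882 29410 rfl perm_g8_upto3 perm_piece_8_4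
theorem perm_g8_upto5 : TraceFix ptabs.perm tabs.word 23 1 32256 :=
  traceFix_extend _ _ letL.get 1023 15 32767 perm_eq 23 1 29410 2846 32256 rfl perm_g8_upto4 perm_piece_8_5
theorem perm_g8 : ∀ r, 23 ≤ r → r < 23 + 1 → relOk ptabs (tabs.word r) 0 ptabs.n = true :=
  relOk_of_traceFix ptabs tabs.word 23 1 perm_g8_upto5
theorem perm_g9_upto0 : TraceFix ptabs.perm tabs.word 24 1 5882 :=
  traceFix_extend _ _ letL.get 1023 15 32767 perm_eq 24 1 0 5882 5882 rfl (traceFix_zero _ _ 24 1) perm_piece_9_0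
theorem perm_g9_upto1 : TraceFix ptabs.perm tabs.word 24 1 11764 :=
  traceFix_extend _ _ letL.get 1023 15 32767 perm_eq 24 1 5882 5882 11764 rfl perm_g9_upto0 perm_piece_9_1
theorem perm_g9_upto2 : TraceFix ptabs.perm tabs.word 24 1 17646 :=
  traceFix_extend _ _ letL.get 1023 15 32767 perm_eq 24 1 11764 5882 17646 rfl perm_g9_upto1 perm_piece_9_2
theorem perm_g9_upto3 : TraceFix ptabs.perm tabs.word 24 1 23528 :=
  traceFix_extend _ _ letL.get 1023 15 32767 perm_eq 24 1 17646 5882 23528 rfl perm_g9_upto2 perm_piece_9_3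
theorem perm_g9_upto4 : TraceFix ptabs.perm tabs.word 24 1 29410 :=
  traceFix_extend _ _ letL.get 1023 15 32767 perm_eq 24 1 23528 5882 29410 rfl perm_g9_upto3 perm_piece_9_4
theorem perm_g9_upto5 : TraceFix ptabs.perm tabs.word 24 1 32256 :=
  traceFix_extend _ _ letL.get 1023 15 32767 perm_eq 24 1 29410 2846 32256 rfl perm_g9_upto4 perm_piece_9_5
theorem perm_g9 : ∀ r, 24 ≤ r → r < 24 + 1 → relOk ptabs (tabs.word r) 0 ptabs.n = true :=
  relOk_of_traceFix ptabs tabs.word 24 1 perm_g9_upto5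
theorem perm_g10_upto0 : TraceFix ptabs.perm tabs.word 25 1 5555 :=
  traceFix_extend _ _ letL.get 1023 15 32767 perm_eq 25 1 0 5555 5555 rfl (traceFix_zero _ _ 25 1) perm_piece_10_0
theorem perm_g10_upto1 : TraceFix ptabs.perm tabs.word 25 1 11110 :=
  traceFix_extend _ _ letL.get 1023 15 32767 perm_eq 25 1 5555 5555 11110 rfl perm_g10_upto0 perm_piece_10_1
theorem perm_g10_upto2 : TraceFix ptabs.perm tabs.word 25 1 16665 :=
  traceFix_extend _ _ letL.get 1023 15 32767 perm_eq 25 1 11110 5555 16665 rfl perm_g10_upto1 perm_piece_10_2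
theorem perm_g10_upto3 : TraceFix ptabs.perm tabs.word 25 1 22220 :=
  traceFix_extend _ _ letL.get 1023 15 32767 perm_eq 25 1 16665 5555 22220 rfl perm_g10_upto2 perm_piece_10_3
theorem perm_g10_upto4 : TraceFix ptabs.perm tabs.word 25 1 27775 :=
  traceFix_extend _ _ letL.get 1023 15 32767 perm_eq 25 1 22220 5555 27775 rfl perm_g10_upto3 perm_piece_10_4
theorem perm_g10_upto5 : TraceFix ptabs.perm tabs.word 25 1 32256 :=
  traceFix_extend _ _ letL.get 1023 15 32767 perm_eq 25 1 27775 4481 32256 rfl perm_g10_upto4 perm_piece_10_5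
theorem perm_g10 : ∀ r, 25 ≤ r → r < 25 + 1 → relOk ptabs (tabs.word r) 0 ptabs.n = true :=
  relOk_of_traceFix ptabs tabs.word 25 1 perm_g10_upto5
theorem perm_g11_upto0 : TraceFix ptabs.perm tabs.word 26 1 5555 :=
  traceFix_extend _ _ letL.get 1023 15 32767 perm_eq 26 1 0 5555 5555 rfl (traceFix_zero _ _ 26 1) perm_piece_11_0
theorem perm_g11_upto1 : TraceFix ptabs.perm tabs.word 26 1 11110 :=
  traceFix_extend _ _ letL.get 1023 15 32767 perm_eq 26 1 5555 5555 11110 rfl perm_g11_upto0 perm_piece_11_1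
theorem perm_g11_upto2 : TraceFix ptabs.perm tabs.word 26 1 16665 :=
  traceFix_extend _ _ letL.get 1023 15 32767 perm_eq 26 1 11110 5555 16665 rfl perm_g11_upto1 perm_piece_11_2
theorem perm_g11_upto3 : TraceFix ptabs.perm tabs.word 26 1 22220 :=
  traceFix_extend _ _ letL.get 1023 15 32767 perm_eq 26 1 16665 5555 22220 rfl perm_g11_upto2 perm_piece_11_3
theorem perm_g11_upto4 : TraceFix ptabs.perm tabs.word 26 1 27775 :=
  traceFix_extend _ _ letL.get 1023 15 32767 perm_eq 26 1 22220 5555 27775 rfl perm_g11_upto3 perm_piece_11_4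
theorem perm_g11_upto5 : TraceFix ptabs.perm tabs.word 26 1 32256 :=
  traceFix_extend _ _ letL.get 1023 15 32767 perm_eq 26 1 27775 4481 32256 rfl perm_g11_upto4 perm_piece_11_5
theorem perm_g11 : ∀ r, 26 ≤ r → r < 26 + 1 → relOk ptabs (tabs.word r) 0 ptabs.n = true :=
  relOk_of_traceFix ptabs tabs.word 26 1 perm_g11_upto5
theorem perm_g12_upto0 : TraceFix ptabs.perm tabs.word 27 1 5555 :=
  traceFix_extend _ _ letL.get 1023 15 32767 perm_eq 27 1 0 5555 5555 rfl (traceFix_zero _ _ 27 1) perm_piece_12_0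
theorem perm_g12_upto1 : TraceFix ptabs.perm tabs.word 27 1 11110 :=
  traceFix_extend _ _ letL.get 1023 15 32767 perm_eq 27 1 5555 5555 11110 rfl perm_g12_upto0 perm_piece_12_1
theorem perm_g12_upto2 : TraceFix ptabs.perm tabs.word 27 1 16665 :=
  traceFix_extend _ _ letL.get 1023 15 32767 perm_eq 27 1 11110 5555 16665 rfl perm_g12_upto1 perm_piece_12_2
theorem perm_g12_upto3 : TraceFix ptabs.perm tabs.word 27 1 22220 :=
  traceFix_extend _ _ letL.get 1023 15 32767 perm_eq 27 1 16665 5555 22220 rfl perm_g12_upto2 perm_piece_12_3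
theorem perm_g12_upto4 : TraceFix ptabs.perm tabs.word 27 1 27775 :=
  traceFix_extend _ _ letL.get 1023 15 32767 perm_eq 27 1 22220 5555 27775 rfl perm_g12_upto3 perm_piece_12_4
theorem perm_g12_upto5 : TraceFix ptabs.perm tabs.word 27 1 32256 :=
  traceFix_extend _ _ letL.get 1023 15 32767 perm_eq 27 1 27775 4481 32256 rfl perm_g12_upto4 perm_piece_12_5
theorem perm_g12 : ∀ r, 27 ≤ r → r < 27 + 1 → relOk ptabs (tabs.word r) 0 ptabs.n = true :=
  relOk_of_traceFix ptabs tabs.word 27 1 perm_g12_upto5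
theorem perm_g13_upto0 : TraceFix ptabs.perm tabs.word 28 1 5555 :=
  traceFix_extend _ _ letL.get 1023 15 32767 perm_eq 28 1 0 5555 5555 rfl (traceFix_zero _ _ 28 1) perm_piece_13_0
theorem perm_g13_upto1 : TraceFix ptabs.perm tabs.word 28 1 11110 :=
  traceFix_extend _ _ letL.get 1023 15 32767 perm_eq 28 1 5555 5555 11110 rfl perm_g13_upto0 perm_piece_13_1
theorem perm_g13_upto2 : TraceFix ptabs.perm tabs.word 28 1 16665 :=
  traceFix_extend _ _ letL.get 1023 15 32767 perm_eq 28 1 11110 5555 16665 rfl perm_g13_upto1 perm_piece_13_2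
theorem perm_g13_upto3 : TraceFix ptabs.perm tabs.word 28 1 22220 :=
  traceFix_extend _ _ letL.get 1023 15 32767 perm_eq 28 1 16665 5555 22220 rfl perm_g13_upto2 perm_piece_13_3
theorem perm_g13_upto4 : TraceFix ptabs.perm tabs.word 28 1 27775 :=
  traceFix_extend _ _ letL.get 1023 15 32767 perm_eq 28 1 22220 5555 27775 rfl perm_g13_upto3 perm_piece_13_4
theorem perm_g13_upto5 : TraceFix ptabs.perm tabs.word 28 1 32256 :=
  traceFix_extend _ _ letL.get 1023 15 32767 perm_eq 28 1 27775 4481 32256 rfl perm_g13_upto4 perm_piece_13_5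
theorem perm_g13 : ∀ r, 28 ≤ r → r < 28 + 1 → relOk ptabs (tabs.word r) 0 ptabs.n = true :=
  relOk_of_traceFix ptabs tabs.word 28 1 perm_g13_upto5
theorem perm_g14_upto0 : TraceFix ptabs.perm tabs.word 29 1 5555 :=
  traceFix_extend _ _ letL.get 1023 15 32767 perm_eq 29 1 0 5555 5555 rfl (traceFix_zero _ _ 29 1) perm_piece_14_0
theorem perm_g14_upto1 : TraceFix ptabs.perm tabs.word 29 1 11110 :=
  traceFix_extend _ _ letL.get 1023 15 32767 perm_eq 29 1 5555 5555 11110 rfl perm_g14_upto0 perm_piece_14_1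
theorem perm_g14_upto2 : TraceFix ptabs.perm tabs.word 29 1 16665 :=
  traceFix_extend _ _ letL.get 1023 15 32767 perm_eq 29 1 11110 5555 16665 rfl perm_g14_upto1 perm_piece_14_2
theorem perm_g14_upto3 : TraceFix ptabs.perm tabs.word 29 1 22220 :=
  traceFix_extend _ _ letL.get 1023 15 32767 perm_eq 29 1 16665 5555 22220 rfl perm_g14_upto2 perm_piece_14_3
theorem perm_g14_upto4 : TraceFix ptabs.perm tabs.word 29 1 27775 :=
  traceFix_extend _ _ letL.get 1023 15 32767 perm_eq 29 1 22220 5555 27775 rfl perm_g14_upto3 perm_piece_14_4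
theorem perm_g14_upto5 : TraceFix ptabs.perm tabs.word 29 1 32256 :=
  traceFix_extend _ _ letL.get 1023 15 32767 perm_eq 29 1 27775 4481 32256 rfl perm_g14_upto4 perm_piece_14_5
theorem perm_g14 : ∀ r, 29 ≤ r → r < 29 + 1 → relOk ptabs (tabs.word r) 0 ptabs.n = true :=
  relOk_of_traceFix ptabs tabs.word 29 1 perm_g14_upto5
theorem perm_g15_upto0 : TraceFix ptabs.perm tabs.word 30 1 5555 :=
  traceFix_extend _ _ letL.get 1023 15 32767 perm_eq 30 1 0 5555 5555 rfl (traceFix_zero _ _ 30 1) perm_piece_15_0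
theorem perm_g15_upto1 : TraceFix ptabs.perm tabs.word 30 1 11110 :=
  traceFix_extend _ _ letL.get 1023 15 32767 perm_eq 30 1 5555 5555 11110 rfl perm_g15_upto0 perm_piece_15_1
theorem perm_g15_upto2 : TraceFix ptabs.perm tabs.word 30 1 16665 :=
  traceFix_extend _ _ letL.get 1023 15 32767 perm_eq 30 1 11110 5555 16665 rfl perm_g15_upto1 perm_piece_15_2
theorem perm_g15_upto3 : TraceFix ptabs.perm tabs.word 30 1 22220 :=
  traceFix_extend _ _ letL.get 1023 15 32767 perm_eq 30 1 16665 5555 22220 rfl perm_g15_upto2 perm_piece_15_3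
theorem perm_g15_upto4 : TraceFix ptabs.perm tabs.word 30 1 27775 :=
  traceFix_extend _ _ letL.get 1023 15 32767 perm_eq 30 1 22220 5555 27775 rfl perm_g15_upto3 perm_piece_15_4
theorem perm_g15_upto5 : TraceFix ptabs.perm tabs.word 30 1 32256 :=
  traceFix_extend _ _ letL.get 1023 15 32767 perm_eq 30 1 27775 4481 32256 rfl perm_g15_upto4 perm_piece_15_5
theorem perm_g15 : ∀ r, 30 ≤ r → r < 30 + 1 → relOk ptabs (tabs.word r) 0 ptabs.n = true :=
  relOk_of_traceFix ptabs tabs.word 30 1 perm_g15_upto5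
theorem perm_g16_upto0 : TraceFix ptabs.perm tabs.word 31 1 5555 :=
  traceFix_extend _ _ letL.get 1023 15 32767 perm_eq 31 1 0 5555 5555 rfl (traceFix_zero _ _ 31 1) perm_piece_16_0
theorem perm_g16_upto1 : TraceFix ptabs.perm tabs.word 31 1 11110 :=
  traceFix_extend _ _ letL.get 1023 15 32767 perm_eq 31 1 5555 5555 11110 rfl perm_g16_upto0 perm_piece_16_1
theorem perm_g16_upto2 : TraceFix ptabs.perm tabs.word 31 1 16665 :=
  traceFix_extend _ _ letL.get 1023 15 32767 perm_eq 31 1 11110 5555 16665 rfl perm_g16_upto1 perm_piece_16_2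
theorem perm_g16_upto3 : TraceFix ptabs.perm tabs.word 31 1 22220 :=
  traceFix_extend _ _ letL.get 1023 15 32767 perm_eq 31 1 16665 5555 22220 rfl perm_g16_upto2 perm_piece_16_3
theorem perm_g16_upto4 : TraceFix ptabs.perm tabs.word 31 1 27775 :=
  traceFix_extend _ _ letL.get 1023 15 32767 perm_eq 31 1 22220 5555 27775 rfl perm_g16_upto3 perm_piece_16_4
theorem perm_g16_upto5 : TraceFix ptabs.perm tabs.word 31 1 32256 :=
  traceFix_extend _ _ letL.get 1023 15 32767 perm_eq 31 1 27775 4481 32256 rfl perm_g16_upto4 perm_piece_16_5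
theorem perm_g16 : ∀ r, 31 ≤ r → r < 31 + 1 → relOk ptabs (tabs.word r) 0 ptabs.n = true :=
  relOk_of_traceFix ptabs tabs.word 31 1 perm_g16_upto5
theorem perm_g17_upto0 : TraceFix ptabs.perm tabs.word 32 1 5555 :=
  traceFix_extend _ _ letL.get 1023 15 32767 perm_eq 32 1 0 5555 5555 rfl (traceFix_zero _ _ 32 1) perm_piece_17_0
theorem perm_g17_upto1 : TraceFix ptabs.perm tabs.word 32 1 11110 :=
  traceFix_extend _ _ letL.get 1023 15 32767 perm_eq 32 1 5555 5555 11110 rfl perm_g17_upto0 perm_piece_17_1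
theorem perm_g17_upto2 : TraceFix ptabs.perm tabs.word 32 1 16665 :=
  traceFix_extend _ _ letL.get 1023 15 32767 perm_eq 32 1 11110 5555 16665 rfl perm_g17_upto1 perm_piece_17_2
theorem perm_g17_upto3 : TraceFix ptabs.perm tabs.word 32 1 22220 :=
  traceFix_extend _ _ letL.get 1023 15 32767 perm_eq 32 1 16665 5555 22220 rfl perm_g17_upto2 perm_piece_17_3
theorem perm_g17_upto4 : TraceFix ptabs.perm tabs.word 32 1 27775 :=
  traceFix_extend _ _ letL.get 1023 15 32767 perm_eq 32 1 22220 5555 27775 rfl perm_g17_upto3 perm_piece_17_4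
theorem perm_g17_upto5 : TraceFix ptabs.perm tabs.word 32 1 32256 :=
  traceFix_extend _ _ letL.get 1023 15 32767 perm_eq 32 1 27775 4481 32256 rfl perm_g17_upto4 perm_piece_17_5
theorem perm_g17 : ∀ r, 32 ≤ r → r < 32 + 1 → relOk ptabs (tabs.word r) 0 ptabs.n = true :=
  relOk_of_traceFix ptabs tabs.word 32 1 perm_g17_upto5
theorem perm_g18_upto0 : TraceFix ptabs.perm tabs.word 33 1 5555 :=
  traceFix_extend _ _ letL.get 1023 15 32767 perm_eq 33 1 0 5555 5555 rfl (traceFix_zero _ _ 33 1) perm_piece_18_0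
theorem perm_g18_upto1 : TraceFix ptabs.perm tabs.word 33 1 11110 :=
  traceFix_extend _ _ letL.get 1023 15 32767 perm_eq 33 1 5555 5555 11110 rfl perm_g18_upto0 perm_piece_18_1
theorem perm_g18_upto2 : TraceFix ptabs.perm tabs.word 33 1 16665 :=
  traceFix_extend _ _ letL.get 1023 15 32767 perm_eq 33 1 11110 5555 16665 rfl perm_g18_upto1 perm_piece_18_2
theorem perm_g18_upto3 : TraceFix ptabs.perm tabs.word 33 1 22220 :=
  traceFix_extend _ _ letL.get 1023 15 32767 perm_eq 33 1 16665 5555 22220 rfl perm_g18_upto2 perm_piece_18_3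
theorem perm_g18_upto4 : TraceFix ptabs.perm tabs.word 33 1 27775 :=
  traceFix_extend _ _ letL.get 1023 15 32767 perm_eq 33 1 22220 5555 27775 rfl perm_g18_upto3 perm_piece_18_4
theorem perm_g18_upto5 : TraceFix ptabs.perm tabs.word 33 1 32256 :=
  traceFix_extend _ _ letL.get 1023 15 32767 perm_eq 33 1 27775 4481 32256 rfl perm_g18_upto4 perm_piece_18_5
theorem perm_g18 : ∀ r, 33 ≤ r → r < 33 + 1 → relOk ptabs (tabs.word r) 0 ptabs.n = true :=
  relOk_of_traceFix ptabs tabs.word 33 1 perm_g18_upto5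
theorem perm_g19_upto0 : TraceFix ptabs.perm tabs.word 34 1 5555 :=
  traceFix_extend _ _ letL.get 1023 15 32767 perm_eq 34 1 0 5555 5555 rfl (traceFix_zero _ _ 34 1) perm_piece_19_0
theorem perm_g19_upto1 : TraceFix ptabs.perm tabs.word 34 1 11110 :=
  traceFix_extend _ _ letL.get 1023 15 32767 perm_eq 34 1 5555 5555 11110 rfl perm_g19_upto0 perm_piece_19_1
theorem perm_g19_upto2 : TraceFix ptabs.perm tabs.word 34 1 16665 :=
  traceFix_extend _ _ letL.get 1023 15 32767 perm_eq 34 1 11110 5555 16665 rfl perm_g19_upto1 perm_piece_19_2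
theorem perm_g19_upto3 : TraceFix ptabs.perm tabs.word 34 1 22220 :=
  traceFix_extend _ _ letL.get 1023 15 32767 perm_eq 34 1 16665 5555 22220 rfl perm_g19_upto2 perm_piece_19_3
theorem perm_g19_upto4 : TraceFix ptabs.perm tabs.word 34 1 27775 :=
  traceFix_extend _ _ letL.get 1023 15 32767 perm_eq 34 1 22220 5555 27775 rfl perm_g19_upto3 perm_piece_19_4
theorem perm_g19_upto5 : TraceFix ptabs.perm tabs.word 34 1 32256 :=
  traceFix_extend _ _ letL.get 1023 15 32767 perm_eq 34 1 27775 4481 32256 rfl perm_g19_upto4 perm_piece_19_5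
theorem perm_g19 : ∀ r, 34 ≤ r → r < 34 + 1 → relOk ptabs (tabs.word r) 0 ptabs.n = true :=
  relOk_of_traceFix ptabs tabs.word 34 1 perm_g19_upto5
theorem perm_g20_upto0 : TraceFix ptabs.perm tabs.word 35 1 5555 :=
  traceFix_extend _ _ letL.get 1023 15 32767 perm_eq 35 1 0 5555 5555 rfl (traceFix_zero _ _ 35 1) perm_piece_20_0
theorem perm_g20_upto1 : TraceFix ptabs.perm tabs.word 35 1 11110 :=
  traceFix_extend _ _ letL.get 1023 15 32767 perm_eq 35 1 5555 5555 11110 rfl perm_g20_upto0 perm_piece_20_1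
theorem perm_g20_upto2 : TraceFix ptabs.perm tabs.word 35 1 16665 :=
  traceFix_extend _ _ letL.get 1023 15 32767 perm_eq 35 1 11110 5555 16665 rfl perm_g20_upto1 perm_piece_20_2
theorem perm_g20_upto3 : TraceFix ptabs.perm tabs.word 35 1 22220 :=
  traceFix_extend _ _ letL.get 1023 15 32767 perm_eq 35 1 16665 5555 22220 rfl perm_g20_upto2 perm_piece_20_3
theorem perm_g20_upto4 : TraceFix ptabs.perm tabs.word 35 1 27775 :=
  traceFix_extend _ _ letL.get 1023 15 32767 perm_eq 35 1 22220 5555 27775 rfl perm_g20_upto3 perm_piece_20_4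
theorem perm_g20_upto5 : TraceFix ptabs.perm tabs.word 35 1 32256 :=
  traceFix_extend _ _ letL.get 1023 15 32767 perm_eq 35 1 27775 4481 32256 rfl perm_g20_upto4 perm_piece_20_5
theorem perm_g20 : ∀ r, 35 ≤ r → r < 35 + 1 → relOk ptabs (tabs.word r) 0 ptabs.n = true :=
  relOk_of_traceFix ptabs tabs.word 35 1 perm_g20_upto5
theorem perm_g21_upto0 : TraceFix ptabs.perm tabs.word 36 1 5555 :=
  traceFix_extend _ _ letL.get 1023 15 32767 perm_eq 36 1 0 5555 5555 rfl (traceFix_zero _ _ 36 1) perm_piece_21_0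
theorem perm_g21_upto1 : TraceFix ptabs.perm tabs.word 36 1 11110 :=
  traceFix_extend _ _ letL.get 1023 15 32767 perm_eq 36 1 5555 5555 11110 rfl perm_g21_upto0 perm_piece_21_1
theorem perm_g21_upto2 : TraceFix ptabs.perm tabs.word 36 1 16665 :=
  traceFix_extend _ _ letL.get 1023 15 32767 perm_eq 36 1 11110 5555 16665 rfl perm_g21_upto1 perm_piece_21_2
theorem perm_g21_upto3 : TraceFix ptabs.perm tabs.word 36 1 22220 :=
  traceFix_extend _ _ letL.get 1023 15 32767 perm_eq 36 1 16665 5555 22220 rfl perm_g21_upto2 perm_piece_21_3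
theorem perm_g21_upto4 : TraceFix ptabs.perm tabs.word 36 1 27775 :=
  traceFix_extend _ _ letL.get 1023 15 32767 perm_eq 36 1 22220 5555 27775 rfl perm_g21_upto3 perm_piece_21_4
theorem perm_g21_upto5 : TraceFix ptabs.perm tabs.word 36 1 32256 :=
  traceFix_extend _ _ letL.get 1023 15 32767 perm_eq 36 1 27775 4481 32256 rfl perm_g21_upto4 perm_piece_21_5
theorem perm_g21 : ∀ r, 36 ≤ r → r < 36 + 1 → relOk ptabs (tabs.word r) 0 ptabs.n = true :=
  relOk_of_traceFix ptabs tabs.word 36 1 perm_g21_upto5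
theorem perm_g22_upto0 : TraceFix ptabs.perm tabs.word 37 1 5555 :=
  traceFix_extend _ _ letL.get 1023 15 32767 perm_eq 37 1 0 5555 5555 rfl (traceFix_zero _ _ 37 1) perm_piece_22_0
theorem perm_g22_upto1 : TraceFix ptabs.perm tabs.word 37 1 11110 :=
  traceFix_extend _ _ letL.get 1023 15 32767 perm_eq 37 1 5555 5555 11110 rfl perm_g22_upto0 perm_piece_22_1
theorem perm_g22_upto2 : TraceFix ptabs.perm tabs.word 37 1 16665 :=
  traceFix_extend _ _ letL.get 1023 15 32767 perm_eq 37 1 11110 5555 16665 rfl perm_g22_upto1 perm_piece_22_2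
theorem perm_g22_upto3 : TraceFix ptabs.perm tabs.word 37 1 22220 :=
  traceFix_extend _ _ letL.get 1023 15 32767 perm_eq 37 1 16665 5555 22220 rfl perm_g22_upto2 perm_piece_22_3
theorem perm_g22_upto4 : TraceFix ptabs.perm tabs.word 37 1 27775 :=
  traceFix_extend _ _ letL.get 1023 15 32767 perm_eq 37 1 22220 5555 27775 rfl perm_g22_upto3 perm_piece_22_4
theorem perm_g22_upto5 : TraceFix ptabs.perm tabs.word 37 1 32256 :=
  traceFix_extend _ _ letL.get 1023 15 32767 perm_eq 37 1 27775 4481 32256 rfl perm_g22_upto4 perm_piece_22_5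
theorem perm_g22 : ∀ r, 37 ≤ r → r < 37 + 1 → relOk ptabs (tabs.word r) 0 ptabs.n = true :=
  relOk_of_traceFix ptabs tabs.word 37 1 perm_g22_upto5
theorem perm_g23_upto0 : TraceFix ptabs.perm tabs.word 38 1 5555 :=
  traceFix_extend _ _ letL.get 1023 15 32767 perm_eq 38 1 0 5555 5555 rfl (traceFix_zero _ _ 38 1) perm_piece_23_0
theorem perm_g23_upto1 : TraceFix ptabs.perm tabs.word 38 1 11110 :=
  traceFix_extend _ _ letL.get 1023 15 32767 perm_eq 38 1 5555 5555 11110 rfl perm_g23_upto0 perm_piece_23_1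
theorem perm_g23_upto2 : TraceFix ptabs.perm tabs.word 38 1 16665 :=
  traceFix_extend _ _ letL.get 1023 15 32767 perm_eq 38 1 11110 5555 16665 rfl perm_g23_upto1 perm_piece_23_2
theorem perm_g23_upto3 : TraceFix ptabs.perm tabs.word 38 1 22220 :=
  traceFix_extend _ _ letL.get 1023 15 32767 perm_eq 38 1 16665 5555 22220 rfl perm_g23_upto2 perm_piece_23_3
theorem perm_g23_upto4 : TraceFix ptabs.perm tabs.word 38 1 27775 :=
  traceFix_extend _ _ letL.get 1023 15 32767 perm_eq 38 1 22220 5555 27775 rfl perm_g23_upto3 perm_piece_23_4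
theorem perm_g23_upto5 : TraceFix ptabs.perm tabs.word 38 1 32256 :=
  traceFix_extend _ _ letL.get 1023 15 32767 perm_eq 38 1 27775 4481 32256 rfl perm_g23_upto4 perm_piece_23_5
theorem perm_g23 : ∀ r, 38 ≤ r → r < 38 + 1 → relOk ptabs (tabs.word r) 0 ptabs.n = true :=
  relOk_of_traceFix ptabs tabs.word 38 1 perm_g23_upto5
theorem perm_g24_upto0 : TraceFix ptabs.perm tabs.word 39 1 5555 :=
  traceFix_extend _ _ letL.get 1023 15 32767 perm_eq 39 1 0 5555 5555 rfl (traceFix_zero _ _ 39 1) perm_piece_24_0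
theorem perm_g24_upto1 : TraceFix ptabs.perm tabs.word 39 1 11110 :=
  traceFix_extend _ _ letL.get 1023 15 32767 perm_eq 39 1 5555 5555 11110 rfl perm_g24_upto0 perm_piece_24_1
theorem perm_g24_upto2 : TraceFix ptabs.perm tabs.word 39 1 16665 :=
  traceFix_extend _ _ letL.get 1023 15 32767 perm_eq 39 1 11110 5555 16665 rfl perm_g24_upto1 perm_piece_24_2
theorem perm_g24_upto3 : TraceFix ptabs.perm tabs.word 39 1 22220 :=
  traceFix_extend _ _ letL.get 1023 15 32767 perm_eq 39 1 16665 5555 22220 rfl perm_g24_upto2 perm_piece_24_3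
theorem perm_g24_upto4 : TraceFix ptabs.perm tabs.word 39 1 27775 :=
  traceFix_extend _ _ letL.get 1023 15 32767 perm_eq 39 1 22220 5555 27775 rfl perm_g24_upto3 perm_piece_24_4
theorem perm_g24_upto5 : TraceFix ptabs.perm tabs.word 39 1 32256 :=
  traceFix_extend _ _ letL.get 1023 15 32767 perm_eq 39 1 27775 4481 32256 rfl perm_g24_upto4 perm_piece_24_5
theorem perm_g24 : ∀ r, 39 ≤ r → r < 39 + 1 → relOk ptabs (tabs.word r) 0 ptabs.n = true :=
  relOk_of_traceFix ptabs tabs.word 39 1 perm_g24_upto5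
theorem perm_g25_upto0 : TraceFix ptabs.perm tabs.word 40 1 11111 :=
  traceFix_extend _ _ letL.get 1023 15 32767 perm_eq 40 1 0 11111 11111 rfl (traceFix_zero _ _ 40 1) perm_piece_25_0
theorem perm_g25_upto1 : TraceFix ptabs.perm tabs.word 40 1 22222 :=
  traceFix_extend _ _ letL.get 1023 15 32767 perm_eq 40 1 11111 11111 22222 rfl perm_g25_upto0 perm_piece_25_1
theorem perm_g25_upto2 : TraceFix ptabs.perm tabs.word 40 1 32256 :=
  traceFix_extend _ _ letL.get 1023 15 32767 perm_eq 40 1 22222 10034 32256 rfl perm_g25_upto1 perm_piece_25_2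
theorem perm_g25 : ∀ r, 40 ≤ r → r < 40 + 1 → relOk ptabs (tabs.word r) 0 ptabs.n = true :=
  relOk_of_traceFix ptabs tabs.word 40 1 perm_g25_upto2
theorem perm_g26_upto0 : TraceFix ptabs.perm tabs.word 41 1 25000 :=
  traceFix_extend _ _ letL.get 1023 15 32767 perm_eq 41 1 0 25000 25000 rfl (traceFix_zero _ _ 41 1) perm_piece_26_0
theorem perm_g26_upto1 : TraceFix ptabs.perm tabs.word 41 1 32256 :=
  traceFix_extend _ _ letL.get 1023 15 32767 perm_eq 41 1 25000 7256 32256 rfl perm_g26_upto0 perm_piece_26_1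
theorem perm_g26 : ∀ r, 41 ≤ r → r < 41 + 1 → relOk ptabs (tabs.word r) 0 ptabs.n = true :=
  relOk_of_traceFix ptabs tabs.word 41 1 perm_g26_upto1
theorem perm_g27_upto0 : TraceFix ptabs.perm tabs.word 42 1 25000 :=
  traceFix_extend _ _ letL.get 1023 15 32767 perm_eq 42 1 0 25000 25000 rfl (traceFix_zero _ _ 42 1) perm_piece_27_0
theorem perm_g27_upto1 : TraceFix ptabs.perm tabs.word 42 1 32256 :=
  traceFix_extend _ _ letL.get 1023 15 32767 perm_eq 42 1 25000 7256 32256 rfl perm_g27_upto0 perm_piece_27_1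
theorem perm_g27 : ∀ r, 42 ≤ r → r < 42 + 1 → relOk ptabs (tabs.word r) 0 ptabs.n = true :=
  relOk_of_traceFix ptabs tabs.word 42 1 perm_g27_upto1
theorem perm_g28_upto0 : TraceFix ptabs.perm tabs.word 43 1 25000 :=
  traceFix_extend _ _ letL.get 1023 15 32767 perm_eq 43 1 0 25000 25000 rfl (traceFix_zero _ _ 43 1) perm_piece_28_0
theorem perm_g28_upto1 : TraceFix ptabs.perm tabs.word 43 1 32256 :=
  traceFix_extend _ _ letL.get 1023 15 32767 perm_eq 43 1 25000 7256 32256 rfl perm_g28_upto0 perm_piece_28_1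
theorem perm_g28 : ∀ r, 43 ≤ r → r < 43 + 1 → relOk ptabs (tabs.word r) 0 ptabs.n = true :=
  relOk_of_traceFix ptabs tabs.word 43 1 perm_g28_upto1
theorem perm_all : ∀ r, 0 ≤ r → r < 44 → relOk ptabs (tabs.word r) 0 ptabs.n = true := by
  intro r h1 h2
  by_cases c0 : r < 16
  · exact perm_g0 r (by omega) (by omega)
  by_cases c1 : r < 17
  · exact perm_g1 r (by omega) (by omega)
  by_cases c2 : r < 18
  · exact perm_g2 r (by omega) (by omega)
  by_cases c3 : r < 19
  · exact perm_g3 r (by omega) (by omega)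
  by_cases c4 : r < 20
  · exact perm_g4 r (by omega) (by omega)
  by_cases c5 : r < 21
  · exact perm_g5 r (by omega) (by omega)
  by_cases c6 : r < 22
  · exact perm_g6 r (by omega) (by omega)
  by_cases c7 : r < 23
  · exact perm_g7 r (by omega) (by omega)
  by_cases c8 : r < 24
  · exact perm_g8 r (by omega) (by omega)
  by_cases c9 : r < 25
  · exact perm_g9 r (by omega) (by omega)
  by_cases c10 : r < 26
  · exact perm_g10 r (by omega) (by omega)
  by_cases c11 : r < 27
  · exact perm_g11 r (by omega) (by omega)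
  by_cases c12 : r < 28
  · exact perm_g12 r (by omega) (by omega)
  by_cases c13 : r < 29
  · exact perm_g13 r (by omega) (by omega)
  by_cases c14 : r < 30
  · exact perm_g14 r (by omega) (by omega)
  by_cases c15 : r < 31
  · exact perm_g15 r (by omega) (by omega)
  by_cases c16 : r < 32
  · exact perm_g16 r (by omega) (by omega)
  by_cases c17 : r < 33
  · exact perm_g17 r (by omega) (by omega)
  by_cases c18 : r < 34
  · exact perm_g18 r (by omega) (by omega)
  by_cases c19 : r < 35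
  · exact perm_g19 r (by omega) (by omega)
  by_cases c20 : r < 36
  · exact perm_g20 r (by omega) (by omega)
  by_cases c21 : r < 37
  · exact perm_g21 r (by omega) (by omega)
  by_cases c22 : r < 38
  · exact perm_g22 r (by omega) (by omega)
  by_cases c23 : r < 39
  · exact perm_g23 r (by omega) (by omega)
  by_cases c24 : r < 40
  · exact perm_g24 r (by omega) (by omega)
  by_cases c25 : r < 41
  · exact perm_g25 r (by omega) (by omega)
  by_cases c26 : r < 42
  · exact perm_g26 r (by omega) (by omega)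
  by_cases c27 : r < 43
  · exact perm_g27 r (by omega) (by omega)
  by_cases c28 : r < 44
  · exact perm_g28 r (by omega) (by omega)
  omega
end Cfsg.Agent.Helper96.M22c.Perm2
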