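import Cfsg.Agent.Helper96.M22c.Perm2.Data
set_option autoImplicit false
set_option maxRecDepth 1000000
namespace Cfsg.Agent.Helper96.M22c.Perm2
open Cfsg.Agent.Helper28
theorem inv_piece0 : allLtFrom (invRow ptabs) 0 3000 = true := by decide +kernel
theorem inv_piece1 : allLtFrom (invRow ptabs) 3000 3000 = true := by decide +kernel
theorem inv_piece2 : allLtFrom (invRow ptabs) 6000 3000 = true := by decide +kernel
end Cfsg.Agent.Helper96.M22c.Perm2
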